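import Cfsg.Agent.H74.E83.LinDat

set_option autoImplicit false
set_option maxRecDepth 100000
set_option exponentiation.threshold 600

namespace Cfsg.Agent.H74.E83.Ker

open Cfsg.Agent.H74.E83 Cfsg.Agent.H74.E83.Trit Cfsg.Agent.H74.E83.Code Cfsg.Agent.H74.E83.Elim

/-- rows (matrix, index) -/
def selm : List (ℕ × ℕ) :=
  [(1, 4), (1, 171), (1, 177), (1, 233), (1, 246), (2, 9), (2, 14), (2, 84), (2, 100), (2, 123), (2, 127), (2, 133),
   (2, 143), (2, 150), (2, 170), (2, 171), (2, 233), (2, 234), (2, 235), (2, 236), (2, 237), (2, 246), (2, 247), (1,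
   242), (1, 117), (1, 129), (1, 111), (1, 130), (1, 10), (1, 83), (1, 124), (1, 149), (1, 243), (1, 220), (1, 238),
   (1, 23), (1, 181), (2, 138), (2, 78), (1, 178), (1, 232), (1, 226), (1, 86), (1, 87), (1, 91), (2, 126), (2, 11),
   (0, 244), (1, 9), (1, 11), (1, 125), (1, 131), (0, 127), (1, 128), (2, 4), (0, 11), (1, 132), (0, 177), (2, 1), (1,
   3), (2, 149), (2, 3), (0, 0), (2, 0), (2, 117), (2, 105), (2, 83), (1, 241), (1, 88), (1, 179), (1, 180), (1, 18),
   (1, 164), (1, 212), (1, 62), (1, 81), (1, 94), (1, 120), (1, 103), (1, 98), (1, 218), (1, 221), (1, 219), (1, 109),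
   (1, 196), (1, 186), (1, 115), (1, 16), (1, 12), (1, 224), (1, 24), (1, 29), (1, 22), (1, 182), (1, 192), (1, 173),
   (1, 174), (1, 183), (1, 193), (1, 195), (1, 185), (1, 210), (1, 15), (1, 14), (1, 44), (1, 30), (1, 53), (1, 165),
   (1, 20), (1, 169), (1, 166), (1, 167), (1, 49), (1, 50), (1, 229), (1, 197), (1, 201), (1, 32), (1, 198), (1, 200),
   (1, 25), (1, 199), (1, 215), (1, 189), (1, 203), (1, 191), (1, 213), (1, 187), (1, 217), (1, 190), (1, 216), (1,
   202), (1, 205), (0, 167), (1, 31), (1, 34), (2, 204), (2, 215), (1, 45), (0, 215), (1, 35), (0, 21), (0, 200), (0,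
   18), (0, 199), (2, 45), (1, 21), (2, 37), (2, 203), (0, 168), (2, 164), (0, 203), (1, 52), (1, 48), (1, 72), (1,
   156), (1, 134), (1, 151), (1, 161), (1, 228), (1, 222), (1, 211), (1, 227), (1, 230), (1, 101), (1, 104), (1, 102),
   (1, 158), (1, 136), (1, 153), (1, 147), (1, 146), (1, 148), (1, 141), (1, 159), (1, 140), (1, 157), (0, 145), (2,
   134), (1, 135), (2, 179), (0, 141), (2, 142), (0, 162), (2, 145), (2, 193), (2, 146), (2, 158), (0, 140), (0, 160),
   (2, 135), (1, 80), (1, 79), (1, 76), (1, 82), (1, 51), (1, 118), (1, 121), (1, 119), (2, 75), (2, 239), (1, 70), (2,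
   72), (0, 93), (2, 82), (0, 82), (0, 61), (0, 72), (2, 96), (2, 74), (0, 73), (0, 96), (1, 110), (2, 102), (0, 63),
   (2, 60), (2, 115), (2, 70), (1, 113), (0, 239), (0, 81), (1, 67), (1, 57), (0, 210), (2, 88), (0, 43), (2, 68), (2,
   222), (0, 220), (1, 66), (0, 39), (0, 89), (2, 225), (0, 38), (2, 51), (2, 40), (2, 69), (1, 43), (0, 219), (2, 58),
   (1, 69), (0, 50), (0, 68), (0, 69)]

/-- pivot columns -/
def colm : List ℕ :=
  [245, 177, 172, 243, 244, 9, 14, 84, 100, 123, 127, 133, 143, 150, 170, 171, 233, 234, 235, 236, 237, 246, 247, 240,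
   155, 122, 111, 130, 8, 85, 129, 117, 241, 220, 238, 29, 181, 144, 78, 178, 239, 226, 88, 89, 91, 125, 11, 128, 6,
   10, 131, 7, 132, 126, 5, 4, 124, 112, 0, 149, 1, 3, 138, 2, 106, 105, 83, 242, 86, 195, 180, 19, 206, 216, 62, 81,
   94, 96, 92, 107, 228, 229, 219, 109, 200, 186, 115, 17, 12, 224, 22, 23, 24, 182, 192, 173, 176, 185, 194, 175, 184,
   210, 15, 179, 35, 45, 53, 164, 18, 169, 165, 207, 65, 49, 227, 199, 201, 46, 197, 217, 30, 214, 203, 189, 187, 198,
   202, 212, 205, 196, 191, 188, 190, 47, 33, 34, 37, 215, 213, 26, 32, 21, 167, 20, 28, 27, 44, 166, 36, 25, 31, 204,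
   52, 68, 79, 145, 157, 160, 163, 225, 221, 211, 223, 209, 116, 118, 114, 147, 136, 153, 151, 154, 135, 139, 159, 137,
   141, 140, 161, 183, 148, 152, 16, 13, 162, 156, 146, 158, 134, 174, 142, 80, 72, 75, 82, 66, 97, 113, 99, 71, 76,
   70, 61, 73, 60, 101, 231, 121, 77, 103, 120, 110, 98, 102, 63, 104, 93, 74, 119, 95, 108, 222, 59, 218, 54, 40, 48,
   43, 39, 38, 51, 69, 87, 90, 41, 55, 58, 56, 57, 67, 64, 208, 50, 42]

/-- the selected row -/
def rowm (e : ℕ × ℕ) : ℕ :=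
  match e.1 with
  | 0 => row lN e.2
  | 1 => fixRow mY e.2
  | _ => fixRow lE e.2

theorem chkm : chk (selm.map rowm) colm [193, 168, 230, 232] (mkW 0 [lw1, lw2, lw3, lw4]) = true := by
  decide +kernel

end Cfsg.Agent.H74.E83.Ker
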