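import Cfsg.Agent.H74.E83.LinDat

set_option autoImplicit false
set_option maxRecDepth 100000
set_option exponentiation.threshold 600

namespace Cfsg.Agent.H74.E83.Ker

open Cfsg.Agent.H74.E83 Cfsg.Agent.H74.E83.Trit Cfsg.Agent.H74.E83.Code Cfsg.Agent.H74.E83.Elim

/-- rows (matrix, index) -/
def selp : List (ℕ × ℕ) :=
  [(1, 4), (1, 171), (1, 177), (1, 246), (2, 9), (2, 14), (2, 84), (2, 100), (2, 123), (2, 127), (2, 133), (2, 143),
   (2, 150), (2, 170), (2, 171), (2, 233), (2, 234), (2, 235), (2, 236), (2, 237), (2, 246), (2, 247), (1, 117), (1,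
   129), (1, 111), (1, 83), (1, 130), (1, 10), (1, 149), (1, 124), (1, 243), (1, 233), (1, 220), (1, 232), (1, 86), (1,
   87), (1, 91), (1, 242), (1, 238), (1, 88), (1, 23), (1, 226), (1, 241), (1, 180), (1, 181), (1, 178), (1, 179), (2,
   138), (2, 78), (2, 85), (2, 117), (1, 1), (1, 150), (0, 144), (0, 3), (1, 112), (2, 105), (1, 78), (1, 3), (2, 126),
   (2, 11), (2, 8), (1, 6), (2, 124), (1, 125), (2, 131), (1, 123), (0, 7), (2, 4), (0, 127), (1, 9), (1, 18), (1, 62),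
   (1, 81), (1, 94), (1, 120), (1, 218), (1, 221), (1, 219), (1, 103), (1, 98), (1, 109), (1, 115), (1, 229), (1, 210),
   (1, 224), (1, 164), (1, 212), (1, 24), (1, 22), (1, 29), (1, 182), (1, 192), (1, 173), (1, 174), (1, 183), (1, 193),
   (1, 165), (1, 20), (1, 169), (1, 53), (1, 44), (1, 30), (1, 197), (1, 201), (1, 198), (1, 32), (1, 200), (1, 199),
   (1, 196), (1, 213), (1, 217), (1, 216), (1, 46), (1, 51), (1, 50), (1, 49), (1, 195), (1, 185), (1, 72), (1, 214),
   (1, 205), (1, 167), (1, 215), (1, 188), (1, 190), (1, 189), (1, 202), (1, 207), (1, 206), (1, 186), (1, 52), (1,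
   48), (1, 225), (1, 227), (1, 209), (1, 230), (1, 223), (1, 19), (1, 162), (1, 16), (1, 12), (1, 15), (1, 31), (0,
   30), (1, 34), (2, 215), (2, 187), (0, 215), (1, 47), (2, 45), (1, 25), (1, 35), (0, 35), (0, 186), (0, 217), (0,
   198), (2, 19), (2, 213), (1, 36), (0, 206), (1, 28), (1, 80), (1, 79), (1, 82), (1, 76), (1, 101), (1, 104), (1,
   102), (1, 156), (1, 151), (1, 134), (1, 161), (1, 114), (1, 113), (1, 108), (1, 93), (1, 95), (1, 99), (1, 116), (1,
   110), (1, 92), (1, 107), (2, 74), (0, 114), (0, 119), (2, 72), (0, 113), (2, 102), (0, 120), (0, 77), (2, 107), (2,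
   76), (2, 226), (0, 73), (2, 61), (2, 96), (2, 118), (1, 158), (1, 136), (1, 153), (1, 147), (1, 141), (1, 137), (2,
   193), (2, 158), (1, 146), (1, 154), (1, 159), (1, 139), (2, 147), (2, 183), (1, 142), (0, 134), (0, 137), (0, 12),
   (2, 184), (0, 159), (1, 17), (2, 12), (2, 157), (0, 163), (0, 154), (1, 55), (1, 56), (1, 43), (2, 53), (1, 42), (0,
   43), (0, 54), (0, 210), (1, 69), (0, 52), (2, 58), (2, 219), (2, 224), (0, 59), (2, 54), (2, 69), (0, 66), (0, 40),
   (1, 40), (0, 219), (2, 68), (2, 43), (0, 221)]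

/-- pivot columns -/
def colp : List ℕ :=
  [245, 177, 172, 244, 9, 14, 84, 100, 123, 127, 133, 143, 150, 170, 171, 233, 234, 235, 236, 237, 246, 247, 155, 122,
   111, 85, 130, 8, 117, 129, 241, 232, 220, 239, 88, 89, 91, 240, 238, 86, 29, 226, 242, 180, 181, 178, 195, 144, 78,
   83, 106, 3, 149, 105, 138, 112, 0, 1, 2, 6, 11, 10, 7, 4, 128, 131, 126, 5, 124, 132, 125, 19, 62, 81, 94, 96, 228,
   221, 230, 92, 107, 109, 115, 222, 210, 224, 206, 166, 22, 24, 23, 182, 192, 173, 176, 185, 194, 164, 18, 169, 53,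
   35, 45, 199, 201, 196, 46, 200, 214, 216, 215, 213, 207, 36, 66, 50, 67, 175, 184, 79, 212, 187, 165, 204, 188, 205,
   189, 186, 191, 202, 190, 69, 52, 209, 223, 211, 219, 208, 21, 179, 17, 12, 15, 47, 20, 31, 37, 217, 32, 30, 26, 25,
   28, 167, 27, 33, 203, 197, 168, 198, 34, 44, 80, 72, 74, 75, 116, 101, 93, 145, 160, 134, 163, 110, 113, 118, 103,
   95, 97, 114, 104, 119, 243, 76, 70, 120, 60, 73, 231, 99, 61, 71, 108, 121, 63, 102, 77, 98, 147, 136, 153, 151,
   183, 137, 142, 158, 154, 159, 146, 135, 157, 140, 13, 152, 162, 139, 141, 156, 193, 148, 174, 161, 16, 218, 48, 43,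
   54, 41, 42, 55, 40, 57, 58, 87, 59, 49, 65, 64, 51, 225, 90, 68, 227, 56, 38, 39]

/-- the selected row -/
def rowp (e : ℕ × ℕ) : ℕ :=
  match e.1 with
  | 0 => row lN e.2
  | 1 => fixRow mY e.2
  | _ => negRow lE e.2

theorem chkp : chk (selp.map rowp) colp [229, 82] (mkW 0 [lw5, lw6]) = true := by
  decide +kernel

end Cfsg.Agent.H74.E83.Ker
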