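import Cfsg.Agent.H74.E83.Tab
import Cfsg.Agent.H74.E83.Elim

/-!
# Data for "no fixed vector" (helper74, S5925, box J)
-/

set_option autoImplicit false
set_option maxRecDepth 100000

namespace Cfsg.Agent.H74.E83

open Cfsg.Agent.H74.E83.Code Cfsg.Agent.H74.E83.Elim


/-- the word of `x` in the root elements `x_r(1)` -/
def wX : List ℕ :=
  [121, 121, 236, 123, 114, 114, 120, 2, 238, 1, 3, 3, 109, 169, 98, 98, 147, 104, 104, 75, 75, 163, 76, 70, 70]

/-- the matrix of `x` -/
def mX : ℕ := wc TX wX (idM 248)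

/-- the word of `y` in the root elements `x_r(1)` -/
def wY : List ℕ :=
  [124, 120, 120, 122, 122, 117, 2, 2, 121, 125, 116, 116, 97, 97, 104, 103, 103, 136, 75, 109, 109, 92, 92, 141]

/-- the matrix of `y` -/
def mY : ℕ := wc TX wY (idM 248)

/-- the word of `t` in the root elements `x_r(1)` -/
def wT : List ℕ :=
  [120, 120, 114, 114, 117, 0, 0, 120, 120, 122, 117, 122, 104, 147, 136, 77, 104, 103, 136, 103]

/-- the matrix of `t` -/
def mT : ℕ := wc TX wT (idM 248)

/-- rows (matrix, index) -/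
def selL : List (ℕ × ℕ) :=
  [(1, 4), (1, 171), (1, 177), (1, 246), (2, 32), (2, 43), (2, 51), (2, 73), (2, 91), (2, 104), (2, 111), (2, 129), (2,
   135), (2, 179), (2, 189), (2, 210), (2, 231), (2, 236), (2, 240), (2, 245), (2, 172), (1, 172), (1, 245), (1, 236),
   (1, 242), (2, 234), (1, 233), (1, 231), (1, 238), (2, 89), (1, 234), (2, 241), (1, 239), (1, 87), (2, 232), (1,
   232), (1, 91), (2, 88), (1, 90), (2, 1), (2, 106), (2, 11), (2, 131), (2, 62), (2, 109), (2, 22), (2, 63), (2, 174),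
   (1, 117), (2, 83), (2, 149), (1, 129), (2, 10), (2, 124), (2, 12), (2, 134), (2, 110), (2, 41), (2, 23), (1, 220),
   (2, 153), (2, 167), (2, 169), (2, 217), (2, 40), (2, 127), (2, 143), (2, 230), (2, 178), (1, 180), (2, 147), (1,
   10), (1, 83), (2, 208), (1, 111), (1, 149), (1, 124), (1, 130), (2, 215), (2, 33), (2, 194), (2, 49), (2, 198), (2,
   77), (1, 23), (2, 27), (2, 98), (1, 179), (2, 192), (2, 81), (0, 177), (0, 245), (2, 93), (2, 224), (2, 121), (1,
   7), (0, 8), (0, 246), (0, 129), (0, 124), (0, 128), (0, 4), (0, 6), (1, 123), (0, 234), (2, 219), (2, 84), (0, 144),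
   (1, 1), (1, 155), (1, 150), (1, 143), (0, 78), (0, 0), (0, 106), (2, 102), (1, 174), (1, 183), (1, 178), (2, 29),
   (1, 24), (1, 192), (1, 181), (2, 183), (2, 187), (2, 59), (1, 81), (2, 203), (1, 109), (1, 189), (2, 70), (2, 159),
   (1, 147), (2, 151), (2, 157), (2, 196), (2, 65), (0, 227), (1, 120), (2, 38), (0, 87), (0, 86), (0, 89), (2, 48),
   (0, 236), (0, 235), (1, 210), (0, 237), (0, 88), (1, 229), (0, 91), (1, 221), (1, 224), (0, 64), (1, 223), (1, 225),
   (2, 68), (0, 67), (0, 230), (2, 57), (0, 222), (0, 54), (1, 58), (1, 67), (2, 21), (1, 103), (2, 47), (2, 15), (2,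
   14), (1, 200), (0, 194), (1, 146), (2, 162), (2, 145), (0, 29), (0, 192), (0, 193), (0, 195), (1, 148), (1, 145),
   (1, 12), (1, 16), (1, 134), (2, 140), (0, 184), (0, 162), (0, 152), (1, 152), (1, 163), (0, 139), (1, 139), (1,
   165), (1, 169), (1, 20), (2, 166), (1, 199), (2, 214), (1, 196), (1, 205), (1, 215), (1, 167), (1, 187), (2, 31),
   (2, 190), (1, 206), (1, 202), (2, 164), (1, 207), (1, 197), (1, 30), (1, 27), (1, 46), (1, 31), (2, 45), (0, 20),
   (2, 19), (1, 37), (1, 26), (0, 25), (1, 18), (1, 44), (0, 21), (0, 33), (0, 47), (0, 203), (0, 242), (0, 240), (2,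
   79), (1, 76), (0, 243), (1, 62), (0, 113), (0, 101), (0, 241), (0, 74), (0, 233), (0, 70), (0, 231), (1, 98), (0,
   107), (1, 60), (2, 75), (1, 61), (2, 61), (2, 108), (1, 102), (0, 61), (0, 75)]

/-- pivot columns -/
def colL : List ℕ :=
  [245, 177, 172, 244, 201, 43, 221, 95, 91, 104, 117, 129, 136, 180, 199, 210, 238, 236, 240, 246, 171, 170, 247, 234,
   243, 237, 232, 233, 242, 89, 235, 241, 239, 86, 231, 226, 87, 88, 90, 100, 105, 133, 132, 72, 94, 176, 63, 174, 155,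
   83, 111, 122, 130, 10, 12, 134, 110, 41, 23, 220, 153, 167, 169, 217, 40, 127, 143, 230, 178, 192, 175, 8, 85, 208,
   144, 149, 125, 124, 215, 32, 194, 53, 198, 73, 29, 33, 98, 195, 173, 62, 3, 11, 93, 224, 116, 126, 5, 131, 9, 123,
   6, 4, 7, 128, 51, 218, 78, 2, 150, 106, 138, 112, 84, 0, 1, 102, 185, 183, 193, 22, 24, 182, 147, 179, 187, 59, 81,
   207, 109, 189, 70, 137, 151, 154, 135, 200, 69, 67, 96, 42, 48, 219, 39, 52, 50, 211, 222, 49, 209, 229, 38, 228,
   227, 68, 225, 223, 65, 64, 66, 57, 55, 58, 54, 56, 20, 107, 46, 15, 14, 216, 16, 156, 162, 145, 158, 181, 146, 148,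
   152, 184, 17, 157, 160, 140, 13, 163, 141, 159, 161, 142, 139, 164, 165, 18, 166, 214, 213, 188, 205, 197, 191, 202,
   27, 190, 206, 186, 168, 196, 212, 44, 34, 30, 47, 28, 37, 21, 204, 26, 19, 35, 36, 31, 203, 45, 25, 76, 77, 60, 79,
   121, 74, 113, 101, 99, 120, 115, 118, 82, 92, 103, 71, 97, 61, 75, 108, 114, 119, 80]

/-- the selected row of `M - 1` -/
def selR (e : ℕ × ℕ) : ℕ :=
  match e.1 with
  | 0 => fixRow mX e.2
  | 1 => fixRow mY e.2
  | _ => fixRow mT e.2

theorem elim_ok : elim (selL.map selR) colL = true := by decide +kernel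

end Cfsg.Agent.H74.E83
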