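import Cfsg.Agent.H751.Two.Word

/-!
# The sparse integral matrix of a root element `x_r(1)` (helper74, after helper751)

`XlsZ D r` : `x_r(1) - 1` as a sparse matrix with integral entries, computed from the tables of `D`; `x_one_eqZ`.
-/

set_option autoImplicit false
set_option linter.unusedSectionVars false

namespace Cfsg.Agent.H74.E83.Sp

open Cfsg.Lie Cfsg.Agent.H751.Two.Word Cfsg.Agent.ChevalleyStructure.Elts

universe u

/-- sparse matrix: row, column, entry -/
abbrev SpZ := List (ℕ × ℕ × ℤ)

section

variable (D : ChevalleyDatum)

/-- the columns of the `h_i` -/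
def colH (r : ℕ) : SpZ := (List.range D.rank).map fun c => (D.rank + r, c, -((D.cartanSR.getD c #[]).getD r 0))

/-- the column of `e_{-r}` -/
def colN (r : ℕ) : SpZ :=
  if D.negIdx.getD r 0 = r then [] else
    ((List.range D.rank).map fun i => (i, D.rank + D.negIdx.getD r 0, (D.coroot.getD r #[]).getD i 0)) ++
      [(D.rank + r, D.rank + D.negIdx.getD r 0, -1)]

/-- the other columns -/
def colC (r : ℕ) : SpZ :=
  ((D.chain.getD r #[]).toList.filter fun e => decide (e.1 ≠ r ∧ e.1 ≠ D.negIdx.getD r 0)).flatMap fun e =>
    e.2.toList.map fun q => (D.rank + q.1, D.rank + e.1, q.2)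

/-- `x_r(1) - 1` -/
def XlsZ (r : ℕ) : SpZ := colH D r ++ (colN D r ++ colC D r)

/-- the contribution of a position -/
abbrev ptZ (K : Type u) [Field K] (a b : ℕ) (e : ℕ × ℕ × ℤ) : K := if e.1 = a ∧ e.2.1 = b then (e.2.2 : K) else 0

/-- the matrix -/
def semZ (K : Type u) [Field K] (l : SpZ) : Matrix D.Idx D.Idx K :=
  Matrix.of fun i j => (l.map (ptZ K (pos D i) (pos D j))).sum

theorem semZ_apply (K : Type u) [Field K] (l : SpZ) (i j : D.Idx) :
    semZ D K l i j = (l.map (ptZ K (pos D i) (pos D j))).sum := rfl

variable {K : Type u} [Field K]

theorem sum_colH (r a b : ℕ) : ((colH D r).map (ptZ K a b)).sum =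
    ((List.range D.rank).map fun c => if D.rank + r = a ∧ c = b then
      (((-((D.cartanSR.getD c #[]).getD r 0) : ℤ)) : K) else 0).sum := by
  unfold colH
  rw [List.map_map]
  rfl

theorem sum_colN (r a b : ℕ) : ((colN D r).map (ptZ K a b)).sum =
    if D.negIdx.getD r 0 = r then 0 else
    ((List.range D.rank).map fun i => if i = a ∧ D.rank + D.negIdx.getD r 0 = b then
      (((D.coroot.getD r #[]).getD i 0 : ℤ) : K) else 0).sum +
      (if D.rank + r = a ∧ D.rank + D.negIdx.getD r 0 = b then (((-1 : ℤ)) : K) else 0) := by
  unfold colN
  by_cases h0 : D.negIdx.getD r 0 = r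
  · rw [if_pos h0, if_pos h0]
    simp
  · rw [if_neg h0, if_neg h0, List.map_append, List.sum_append, List.map_map, List.map_singleton, List.sum_singleton]
    rfl

theorem sum_colC (r a b : ℕ) : ((colC D r).map (ptZ K a b)).sum =
    ((D.chain.getD r #[]).toList.map fun e => if e.1 ≠ r ∧ e.1 ≠ D.negIdx.getD r 0 then
      (e.2.toList.map fun q => if D.rank + q.1 = a ∧ D.rank + e.1 = b then ((q.2 : ℤ) : K) else 0).sum else 0).sum := by
  unfold colC
  rw [sum_flatMap, sum_filter_eq]
  congr 1
  apply List.map_congr_left
  intro e _
  by_cases h : e.1 ≠ r ∧ e.1 ≠ D.negIdx.getD r 0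
  · rw [if_pos h, if_pos h, List.map_map]
    rfl
  · rw [if_neg h, if_neg h]

theorem sum_XlsZ (r a b : ℕ) : ((XlsZ D r).map (ptZ K a b)).sum =
    ((colH D r).map (ptZ K a b)).sum + (((colN D r).map (ptZ K a b)).sum + ((colC D r).map (ptZ K a b)).sum) := by
  unfold XlsZ
  rw [List.map_append, List.sum_append, List.map_append, List.sum_append]

theorem xMat_one_eqZ (r : Fin D.nroots) : D.xMat K r 1 = 1 + semZ D K (XlsZ D r.val) := by
  ext i j
  rw [Matrix.add_apply, semZ_apply, sum_XlsZ, sum_colH, sum_colN, sum_colC, Matrix.one_apply]
  unfold ChevalleyDatum.xMat
  rw [Matrix.of_apply]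
  rcases j with j | s
  · -- the columns of the `h_j`
    have hj := j.2
    have e1 : ((D.chain.getD r.val #[]).toList.map fun e => if e.1 ≠ r.val ∧ e.1 ≠ D.negIdx.getD r.val 0 then
        (e.2.toList.map fun q => if D.rank + q.1 = pos D i ∧ D.rank + e.1 = pos D (Sum.inl j) then
          ((q.2 : ℤ) : K) else 0).sum else 0).sum = 0 := by
      apply sum_zero_of
      intro e _
      split_ifs
      · apply sum_zero_of
        intro q _
        rw [if_neg]
        rintro ⟨-, h⟩
        rw [pos_inl] at h
        omega
      · rfl
    have e2 : (if D.negIdx.getD r.val 0 = r.val then (0 : K) else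
        ((List.range D.rank).map fun i' => if i' = pos D i ∧ D.rank + D.negIdx.getD r.val 0 = pos D (Sum.inl j) then
          (((D.coroot.getD r.val #[]).getD i' 0 : ℤ) : K) else 0).sum +
          (if D.rank + r.val = pos D i ∧ D.rank + D.negIdx.getD r.val 0 = pos D (Sum.inl j) then
            (((-1 : ℤ)) : K) else 0)) = 0 := by
      split_ifs with h1 h2
      · rfl
      · rw [pos_inl] at h2; omega
      · rw [add_zero]
        apply sum_zero_of
        intro e _
        rw [if_neg]
        rintro ⟨-, h⟩
        rw [pos_inl] at h
        omega
    rw [e1, e2, add_zero, add_zero, sum_range_single _ j.val hj]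
    · rcases i with i | u
      · have hi := i.2
        have h1 : ¬ (D.rank + r.val = pos D (Sum.inl i) ∧ j.val = pos D (Sum.inl j)) := by
          rintro ⟨h, -⟩
          rw [pos_inl] at h
          omega
        rw [if_neg h1, add_zero]
        simp
      · by_cases h : u = r
        · subst h
          have h1 : (D.rank + u.val = pos D (Sum.inr u) ∧ j.val = pos D (Sum.inl j)) := ⟨rfl, rfl⟩
          rw [if_pos h1]
          simp
        · have h1 : ¬ (D.rank + r.val = pos D (Sum.inr u) ∧ j.val = pos D (Sum.inl j)) := by
            rintro ⟨h2, -⟩
            rw [pos_inr] at h2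
            exact h (Fin.ext (by omega))
          rw [if_neg h1]
          simp [h]
    · intro k hk
      rw [if_neg]
      rintro ⟨-, h⟩
      rw [pos_inl] at h
      exact hk h
  · -- the columns of the `e_s`
    have e1 : ((List.range D.rank).map fun c => if D.rank + r.val = pos D i ∧ c = pos D (Sum.inr s) then
        (((-((D.cartanSR.getD c #[]).getD r.val 0) : ℤ)) : K) else 0).sum = 0 := by
      apply sum_zero_of
      intro c hc
      rw [List.mem_range] at hc
      rw [if_neg]
      rintro ⟨-, h⟩
      rw [pos_inr] at h
      omega
    rw [e1, zero_add]
    have hps : ∀ m : ℕ, D.rank + m = pos D (Sum.inr s) ↔ m = s.val := by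
      intro m
      rw [pos_inr]
      omega
    simp only [hps]
    by_cases hsr : s = r
    · subst hsr
      have e2 : (if D.negIdx.getD s.val 0 = s.val then (0 : K) else
        ((List.range D.rank).map fun i' => if i' = pos D i ∧ D.negIdx.getD s.val 0 = s.val then
          (((D.coroot.getD s.val #[]).getD i' 0 : ℤ) : K) else 0).sum +
          (if D.rank + s.val = pos D i ∧ D.negIdx.getD s.val 0 = s.val then (((-1 : ℤ)) : K) else 0)) = 0 := by
        split_ifs with h1 h2
        · rfl
        · exact absurd h2.2 h1
        · rw [add_zero]
          apply sum_zero_of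
          intro e _
          rw [if_neg]
          rintro ⟨-, h⟩
          exact h1 h
      have e3 : ((D.chain.getD s.val #[]).toList.map fun e => if e.1 ≠ s.val ∧ e.1 ≠ D.negIdx.getD s.val 0 then
          (e.2.toList.map fun q => if D.rank + q.1 = pos D i ∧ e.1 = s.val then
            ((q.2 : ℤ) : K) else 0).sum else 0).sum = 0 := by
        apply sum_zero_of
        intro e _
        split_ifs with h1
        · apply sum_zero_of
          intro q _
          rw [if_neg]
          rintro ⟨-, h⟩
          exact h1.1 h
        · rfl
      rw [e2, e3, add_zero, add_zero, if_pos rfl]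
      rcases i with i | u
      · simp
      · simp
    · have hsr' : ¬ (s.val = r.val) := fun e => hsr (Fin.ext e)
      simp only [if_neg hsr]
      by_cases hn : s.val = D.negIdx.getD r.val 0
      · have hnr : ¬ (D.negIdx.getD r.val 0 = r.val) := fun e => hsr' (hn.trans e)
        have e3 : ((D.chain.getD r.val #[]).toList.map fun e => if e.1 ≠ r.val ∧ e.1 ≠ D.negIdx.getD r.val 0 then
            (e.2.toList.map fun q => if D.rank + q.1 = pos D i ∧ e.1 = s.val then
              ((q.2 : ℤ) : K) else 0).sum else 0).sum = 0 := by
          apply sum_zero_of
          intro e _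
          split_ifs with h1
          · apply sum_zero_of
            intro q _
            rw [if_neg]
            rintro ⟨-, h⟩
            exact h1.2 (h.trans hn)
          · rfl
        rw [e3, add_zero, if_neg hnr, if_pos hn]
        simp only [hn.symm, and_true]
        rcases i with i | u
        · have hi := i.2
          rw [sum_range_single _ i.val hi]
          · have h1 : ¬ (D.rank + r.val = pos D (Sum.inl i)) := by rw [pos_inl]; omega
            rw [if_neg h1, pos_inl, if_pos rfl]
            simp
          · intro k hk
            rw [if_neg]
            rw [pos_inl]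
            exact hk
        · have e4 : ((List.range D.rank).map fun i' => if i' = pos D (Sum.inr u) then
              (((D.coroot.getD r.val #[]).getD i' 0 : ℤ) : K) else 0).sum = 0 := by
            apply sum_zero_of
            intro c hc
            rw [List.mem_range] at hc
            rw [if_neg]
            rw [pos_inr]
            omega
          rw [e4, zero_add]
          by_cases h : u = s
          · subst h
            have h6 : ¬ (D.rank + r.val = pos D (Sum.inr u)) := by
              rw [pos_inr]
              intro e
              exact hsr' (by omega)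
            simp [h6]
          · by_cases h' : u = r
            · subst h'
              have h6 : D.rank + u.val = pos D (Sum.inr u) := rfl
              simp [h, h6]
            · have h6 : ¬ (D.rank + r.val = pos D (Sum.inr u)) := by
                rw [pos_inr]
                intro e
                exact h' (Fin.ext (by omega))
              simp [h, h', h6]
      · have hn' : ¬ (D.negIdx.getD r.val 0 = s.val) := fun e => hn e.symm
        rw [if_neg hn]
        simp only [hn', and_false, if_false]
        have e2 : (if D.negIdx.getD r.val 0 = r.val then (0 : K) else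
            ((List.range D.rank).map fun _ : ℕ => (0 : K)).sum + 0) = 0 := by
          split_ifs
          · rfl
          · rw [add_zero]
            exact sum_zero_of _ _ fun _ _ => rfl
        rw [e2, zero_add]
        rcases i with i | u
        · have hi := i.2
          rw [sum_zero_of]
          · simp
          · intro e _
            split_ifs
            · apply sum_zero_of
              intro q _
              rw [if_neg]
              rw [pos_inl]
              omega
            · rfl
        · have h7 : (Sum.inr u = (Sum.inr s : D.Idx)) ↔ u = s := by simp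
          simp only [h7]
          congr 1
          unfold ChevalleyDatum.chainCoeff
          rw [Cfsg.Agent.H751.Two.Word.sum_flatMap, sum_filter_eq]
          congr 1
          apply List.map_congr_left
          intro e _
          by_cases hes : e.1 = s.val
          · have h8 : e.1 ≠ r.val ∧ e.1 ≠ D.negIdx.getD r.val 0 := by
              rw [hes]
              exact ⟨hsr', hn⟩
            rw [if_pos hes, if_pos h8, List.map_map, sum_filter_eq]
            have h9 : (e.2.toList.map fun q => if D.rank + q.1 = pos D (Sum.inr u) ∧ e.1 = s.val then
                ((q.2 : ℤ) : K) else 0) =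
                (e.2.toList.zipIdx.map fun q => if q.1.1 = u.val then ((q.1.2 : ℤ) : K) else 0) := by
              have h10 : e.2.toList = e.2.toList.zipIdx.map Prod.fst := by
                rw [List.zipIdx_map_fst]
              conv_lhs => rw [h10]
              rw [List.map_map]
              apply List.map_congr_left
              intro q _
              simp only [Function.comp_apply, pos_inr, hes, and_true, Nat.add_left_cancel_iff]
            rw [h9]
            congr 1
            apply List.map_congr_left
            intro q _
            simp
          · rw [if_neg hes]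
            split_ifs
            · symm
              apply sum_zero_of
              intro q _
              rw [if_neg]
              rintro ⟨-, h⟩
              exact hes h
            · rfl

theorem x_one_eqZ {r : ℕ} (hr : r < D.nroots) : D.x K r 1 = 1 + semZ D K (XlsZ D r) := by
  rw [x_of_lt hr]
  exact xMat_one_eqZ D ⟨r, hr⟩

end

end Cfsg.Agent.H74.E83.Sp
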