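import Cfsg.Agent.H74.E83.Code

/-!
# Table of the root elements of the subsystem `A₄ + A₄` of `E₈` modulo 3 (helper74, S5925, box J)

`TX` : `x_r(1) - 1` modulo 3 for the 40 roots of the tables `E1`, `E2` of `tools/plans/S5925_code/frame.txt`.
-/

set_option autoImplicit false
set_option maxRecDepth 100000

namespace Cfsg.Agent.H74.E83

open Cfsg.Agent.H74.E83.Code

def t0 : SpT :=
  [(8, 7, false), (0, 247, false), (2, 247, true), (4, 247, false), (5, 247, true), (7, 247, false), (8, 247, true),
   (9, 128, false), (10, 130, false), (11, 133, false), (12, 137, false), (13, 142, false), (14, 148, false), (15, 154,
   false), (16, 159, true), (17, 163, false), (18, 166, true), (19, 168, false), (20, 169, true), (22, 176, false),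
   (23, 181, true), (24, 185, false), (25, 188, true), (26, 190, false), (27, 191, true), (29, 195, true), (30, 198,
   false), (31, 200, true), (32, 201, false), (34, 204, true), (35, 206, false), (36, 207, true), (38, 209, true), (39,
   210, false), (41, 211, true), (44, 214, false), (45, 216, true), (46, 217, false), (48, 219, false), (49, 220,
   true), (51, 221, false), (54, 223, true), (55, 224, false), (57, 225, true), (60, 226, false), (64, 228, false),
   (65, 229, true), (67, 230, false), (70, 231, true), (74, 232, false), (79, 233, true), (86, 235, false), (87, 236,
   true), (89, 237, false), (92, 238, true), (96, 239, false), (101, 240, true), (107, 241, true), (113, 242, true),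
   (118, 243, true), (122, 244, true), (125, 245, true), (127, 246, true)]

def t1 : SpT :=
  [(9, 6, false), (9, 7, true), (0, 246, false), (2, 246, true), (4, 246, false), (5, 246, true), (7, 246, true), (9,
   246, true), (8, 127, false), (10, 129, false), (11, 132, false), (12, 136, false), (13, 141, false), (14, 147,
   false), (15, 153, false), (16, 158, true), (17, 162, false), (18, 165, true), (19, 167, false), (21, 169, true),
   (22, 175, false), (23, 180, true), (24, 184, false), (25, 187, true), (26, 189, false), (28, 191, true), (29, 194,
   true), (30, 197, false), (31, 199, true), (33, 201, false), (34, 203, true), (35, 205, false), (37, 207, true), (38,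
   208, true), (40, 210, false), (42, 211, true), (44, 213, false), (45, 215, true), (47, 217, false), (48, 218,
   false), (50, 220, true), (52, 221, false), (54, 222, true), (56, 224, false), (58, 225, true), (61, 226, false),
   (64, 227, false), (66, 229, true), (68, 230, false), (71, 231, true), (75, 232, false), (80, 233, true), (86, 234,
   false), (88, 236, true), (90, 237, false), (93, 238, true), (97, 239, false), (102, 240, true), (108, 241, true),
   (114, 242, true), (119, 243, true), (123, 244, true), (126, 245, true), (128, 247, true)]

def t2 : SpT :=
  [(10, 5, false), (10, 6, true), (0, 245, false), (2, 245, true), (4, 245, false), (5, 245, true), (6, 245, false),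
   (7, 245, true), (10, 245, true), (8, 125, false), (9, 126, false), (11, 131, false), (12, 135, false), (13, 140,
   false), (14, 146, false), (15, 152, false), (16, 157, true), (17, 161, false), (18, 164, true), (20, 167, false),
   (21, 168, true), (22, 174, false), (23, 179, true), (24, 183, false), (25, 186, true), (27, 189, false), (28, 190,
   true), (29, 193, true), (30, 196, false), (32, 199, true), (33, 200, false), (34, 202, true), (36, 205, false), (37,
   206, true), (39, 208, true), (40, 209, false), (43, 211, true), (44, 212, false), (46, 215, true), (47, 216, false),
   (49, 218, false), (50, 219, true), (53, 221, false), (55, 222, true), (56, 223, false), (59, 225, true), (62, 226,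
   false), (65, 227, false), (66, 228, true), (69, 230, false), (72, 231, true), (76, 232, false), (81, 233, true),
   (87, 234, false), (88, 235, true), (91, 237, false), (94, 238, true), (98, 239, false), (103, 240, true), (109, 241,
   true), (115, 242, true), (120, 243, true), (124, 244, true), (129, 246, true), (130, 247, true)]

def t3 : SpT :=
  [(11, 4, false), (11, 5, true), (0, 244, false), (2, 244, true), (4, 244, false), (6, 244, false), (7, 244, true),
   (11, 244, true), (8, 122, false), (9, 123, false), (10, 124, false), (12, 134, false), (13, 139, false), (14, 145,
   false), (15, 151, false), (16, 156, true), (17, 160, false), (19, 164, true), (20, 165, false), (21, 166, true),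
   (22, 173, false), (23, 178, true), (24, 182, false), (26, 186, true), (27, 187, false), (28, 188, true), (29, 192,
   true), (31, 196, false), (32, 197, true), (33, 198, false), (35, 202, true), (36, 203, false), (37, 204, true), (41,
   208, true), (42, 209, false), (43, 210, true), (45, 212, false), (46, 213, true), (47, 214, false), (51, 218,
   false), (52, 219, true), (53, 220, false), (57, 222, true), (58, 223, false), (59, 224, true), (63, 226, false),
   (67, 227, false), (68, 228, true), (69, 229, false), (73, 231, true), (77, 232, false), (82, 233, true), (89, 234,
   false), (90, 235, true), (91, 236, false), (95, 238, true), (99, 239, false), (104, 240, true), (110, 241, true),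
   (116, 242, true), (121, 243, true), (131, 245, true), (132, 246, true), (133, 247, true)]

def t70 : SpT :=
  [(78, 0, false), (78, 1, false), (78, 4, true), (0, 177, true), (1, 177, true), (2, 177, true), (3, 177, true), (78,
   177, true), (12, 23, false), (13, 24, false), (14, 29, false), (18, 44, false), (19, 45, false), (20, 46, false),
   (21, 47, false), (38, 86, false), (39, 87, false), (40, 88, false), (41, 89, false), (42, 90, false), (43, 91,
   false), (60, 107, false), (61, 108, false), (62, 109, false), (63, 110, false), (70, 113, true), (71, 114, true),
   (72, 115, true), (73, 116, true), (74, 118, false), (75, 119, false), (76, 120, false), (77, 121, false), (83, 149,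
   false), (84, 150, true), (85, 155, false), (100, 170, true), (105, 171, false), (106, 172, true), (134, 178, true),
   (135, 179, true), (136, 180, true), (137, 181, true), (139, 182, false), (140, 183, false), (141, 184, false), (142,
   185, false), (145, 192, true), (146, 193, true), (147, 194, true), (148, 195, true), (164, 212, true), (165, 213,
   true), (166, 214, true), (167, 215, true), (168, 216, true), (169, 217, true), (208, 234, true), (209, 235, true),
   (210, 236, true), (211, 237, true), (226, 241, true), (231, 242, true), (232, 243, true)]

def t75 : SpT :=
  [(83, 0, false), (83, 1, true), (83, 3, false), (83, 4, true), (0, 172, true), (2, 172, true), (3, 172, true), (83,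
   172, true), (12, 22, true), (15, 24, false), (16, 29, false), (18, 34, true), (19, 35, true), (20, 36, true), (21,
   37, true), (48, 86, false), (49, 87, false), (50, 88, false), (51, 89, false), (52, 90, false), (53, 91, false),
   (60, 96, true), (61, 97, true), (62, 98, true), (63, 99, true), (70, 101, true), (71, 102, true), (72, 103, true),
   (73, 104, true), (78, 106, false), (79, 118, false), (80, 119, false), (81, 120, false), (82, 121, false), (84, 138,
   false), (85, 144, false), (111, 170, true), (117, 171, true), (134, 173, true), (135, 174, true), (136, 175, true),
   (137, 176, true), (149, 177, true), (151, 182, false), (152, 183, false), (153, 184, false), (154, 185, false),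
   (156, 192, false), (157, 193, false), (158, 194, false), (159, 195, false), (164, 202, true), (165, 203, true),
   (166, 204, true), (167, 205, true), (168, 206, true), (169, 207, true), (218, 234, false), (219, 235, false), (220,
   236, false), (221, 237, false), (226, 239, true), (231, 240, true), (233, 243, false)]

def t76 : SpT :=
  [(84, 0, false), (84, 2, false), (84, 3, true), (0, 171, true), (2, 171, true), (84, 171, true), (13, 22, true), (15,
   23, true), (17, 29, false), (18, 30, false), (19, 31, false), (20, 32, false), (21, 33, false), (54, 86, false),
   (55, 87, false), (56, 88, false), (57, 89, false), (58, 90, false), (59, 91, false), (60, 92, false), (61, 93,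
   false), (62, 94, false), (63, 95, false), (74, 101, true), (75, 102, true), (76, 103, true), (77, 104, true), (78,
   105, true), (79, 113, false), (80, 114, false), (81, 115, false), (82, 116, false), (83, 117, false), (85, 143,
   false), (112, 170, true), (138, 172, true), (139, 173, true), (140, 174, true), (141, 175, true), (142, 176, true),
   (150, 177, false), (151, 178, false), (152, 179, false), (153, 180, false), (154, 181, false), (160, 192, true),
   (161, 193, true), (162, 194, true), (163, 195, true), (164, 196, true), (165, 197, true), (166, 198, true), (167,
   199, true), (168, 200, true), (169, 201, true), (222, 234, true), (223, 235, true), (224, 236, true), (225, 237,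
   true), (226, 238, true), (232, 240, false), (233, 242, false)]

def t77 : SpT :=
  [(85, 0, true), (85, 2, true), (0, 170, true), (85, 170, true), (14, 22, true), (16, 23, true), (17, 24, true), (18,
   25, true), (19, 26, true), (20, 27, true), (21, 28, true), (64, 86, false), (65, 87, false), (66, 88, false), (67,
   89, false), (68, 90, false), (69, 91, false), (70, 92, false), (71, 93, false), (72, 94, false), (73, 95, false),
   (74, 96, false), (75, 97, false), (76, 98, false), (77, 99, false), (78, 100, false), (79, 107, false), (80, 108,
   false), (81, 109, false), (82, 110, false), (83, 111, false), (84, 112, false), (143, 171, true), (144, 172, true),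
   (145, 173, true), (146, 174, true), (147, 175, true), (148, 176, true), (155, 177, true), (156, 178, true), (157,
   179, true), (158, 180, true), (159, 181, true), (160, 182, true), (161, 183, true), (162, 184, true), (163, 185,
   true), (164, 186, true), (165, 187, true), (166, 188, true), (167, 189, true), (168, 190, true), (169, 191, true),
   (227, 234, false), (228, 235, false), (229, 236, false), (230, 237, false), (231, 238, false), (232, 239, false),
   (233, 241, false)]

def t92 : SpT :=
  [(100, 0, true), (100, 1, false), (100, 2, false), (100, 4, true), (1, 155, true), (2, 155, true), (3, 155, true),
   (100, 155, true), (12, 16, false), (13, 17, false), (22, 29, true), (25, 44, true), (26, 45, true), (27, 46, true),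
   (28, 47, true), (38, 64, true), (39, 65, true), (40, 66, true), (41, 67, true), (42, 68, true), (43, 69, true), (60,
   79, true), (61, 80, true), (62, 81, true), (63, 82, true), (78, 85, true), (92, 113, true), (93, 114, true), (94,
   115, true), (95, 116, true), (96, 118, false), (97, 119, false), (98, 120, false), (99, 121, false), (105, 143,
   false), (106, 144, true), (111, 149, false), (112, 150, true), (134, 156, true), (135, 157, true), (136, 158, true),
   (137, 159, true), (139, 160, false), (140, 161, false), (141, 162, false), (142, 163, false), (170, 177, false),
   (173, 192, false), (174, 193, false), (175, 194, false), (176, 195, false), (186, 212, false), (187, 213, false),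
   (188, 214, false), (189, 215, false), (190, 216, false), (191, 217, false), (208, 227, false), (209, 228, false),
   (210, 229, false), (211, 230, false), (226, 233, false), (238, 242, true), (239, 243, true)]

def t97 : SpT :=
  [(105, 1, false), (105, 2, true), (105, 3, false), (105, 4, true), (1, 150, true), (3, 150, true), (105, 150, true),
   (12, 15, true), (14, 17, false), (22, 24, false), (30, 44, true), (31, 45, true), (32, 46, true), (33, 47, true),
   (38, 54, false), (39, 55, false), (40, 56, false), (41, 57, false), (42, 58, false), (43, 59, false), (70, 79,
   true), (71, 80, true), (72, 81, true), (73, 82, true), (78, 84, false), (92, 107, true), (93, 108, true), (94, 109,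
   true), (95, 110, true), (100, 112, false), (101, 118, false), (102, 119, false), (103, 120, false), (104, 121,
   false), (106, 138, false), (117, 149, true), (134, 151, true), (135, 152, true), (136, 153, true), (137, 154, true),
   (143, 155, true), (145, 160, false), (146, 161, false), (147, 162, false), (148, 163, false), (171, 177, true),
   (173, 182, false), (174, 183, false), (175, 184, false), (176, 185, false), (196, 212, true), (197, 213, true),
   (198, 214, true), (199, 215, true), (200, 216, true), (201, 217, true), (208, 222, false), (209, 223, false), (210,
   224, false), (211, 225, false), (231, 233, true), (238, 241, true), (240, 243, false)]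

def t98 : SpT :=
  [(106, 1, true), (106, 3, true), (1, 149, true), (106, 149, true), (13, 15, true), (14, 16, true), (22, 23, true),
   (34, 44, true), (35, 45, true), (36, 46, true), (37, 47, true), (38, 48, true), (39, 49, true), (40, 50, true), (41,
   51, true), (42, 52, true), (43, 53, true), (74, 79, true), (75, 80, true), (76, 81, true), (77, 82, true), (78, 83,
   true), (96, 107, true), (97, 108, true), (98, 109, true), (99, 110, true), (100, 111, true), (101, 113, false),
   (102, 114, false), (103, 115, false), (104, 116, false), (105, 117, false), (138, 150, true), (139, 151, true),
   (140, 152, true), (141, 153, true), (142, 154, true), (144, 155, false), (145, 156, false), (146, 157, false), (147,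
   158, false), (148, 159, false), (172, 177, false), (173, 178, false), (174, 179, false), (175, 180, false), (176,
   181, false), (202, 212, false), (203, 213, false), (204, 214, false), (205, 215, false), (206, 216, false), (207,
   217, false), (208, 218, false), (209, 219, false), (210, 220, false), (211, 221, false), (232, 233, false), (239,
   241, false), (240, 242, false)]

def t103 : SpT :=
  [(111, 0, true), (111, 1, true), (111, 2, false), (111, 3, false), (111, 4, true), (2, 144, true), (3, 144, true),
   (111, 144, true), (12, 14, true), (15, 17, false), (23, 29, true), (25, 34, false), (26, 35, false), (27, 36,
   false), (28, 37, false), (48, 64, true), (49, 65, true), (50, 66, true), (51, 67, true), (52, 68, true), (53, 69,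
   true), (60, 74, false), (61, 75, false), (62, 76, false), (63, 77, false), (83, 85, true), (92, 101, true), (93,
   102, true), (94, 103, true), (95, 104, true), (100, 106, false), (107, 118, false), (108, 119, false), (109, 120,
   false), (110, 121, false), (112, 138, false), (117, 143, true), (134, 145, true), (135, 146, true), (136, 147,
   true), (137, 148, true), (149, 155, true), (151, 160, false), (152, 161, false), (153, 162, false), (154, 163,
   false), (170, 172, false), (178, 192, true), (179, 193, true), (180, 194, true), (181, 195, true), (186, 202,
   false), (187, 203, false), (188, 204, false), (189, 205, false), (190, 206, false), (191, 207, false), (218, 227,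
   true), (219, 228, true), (220, 229, true), (221, 230, true), (226, 232, false), (238, 240, true), (241, 243, false)]

def t104 : SpT :=
  [(112, 0, true), (112, 2, true), (112, 3, true), (2, 143, true), (112, 143, true), (13, 14, true), (15, 16, true),
   (24, 29, true), (25, 30, true), (26, 31, true), (27, 32, true), (28, 33, true), (54, 64, true), (55, 65, true), (56,
   66, true), (57, 67, true), (58, 68, true), (59, 69, true), (60, 70, true), (61, 71, true), (62, 72, true), (63, 73,
   true), (84, 85, true), (96, 101, true), (97, 102, true), (98, 103, true), (99, 104, true), (100, 105, true), (107,
   113, false), (108, 114, false), (109, 115, false), (110, 116, false), (111, 117, false), (138, 144, true), (139,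
   145, true), (140, 146, true), (141, 147, true), (142, 148, true), (150, 155, false), (151, 156, false), (152, 157,
   false), (153, 158, false), (154, 159, false), (170, 171, false), (182, 192, false), (183, 193, false), (184, 194,
   false), (185, 195, false), (186, 196, false), (187, 197, false), (188, 198, false), (189, 199, false), (190, 200,
   false), (191, 201, false), (222, 227, false), (223, 228, false), (224, 229, false), (225, 230, false), (226, 231,
   false), (239, 240, false), (241, 242, false)]

def t109 : SpT :=
  [(117, 1, true), (117, 2, true), (117, 3, true), (117, 4, true), (3, 138, true), (117, 138, true), (12, 13, true),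
   (16, 17, true), (23, 24, true), (30, 34, true), (31, 35, true), (32, 36, true), (33, 37, true), (48, 54, true), (49,
   55, true), (50, 56, true), (51, 57, true), (52, 58, true), (53, 59, true), (70, 74, true), (71, 75, true), (72, 76,
   true), (73, 77, true), (83, 84, true), (92, 96, true), (93, 97, true), (94, 98, true), (95, 99, true), (105, 106,
   true), (111, 112, true), (113, 118, false), (114, 119, false), (115, 120, false), (116, 121, false), (134, 139,
   true), (135, 140, true), (136, 141, true), (137, 142, true), (143, 144, false), (149, 150, false), (156, 160,
   false), (157, 161, false), (158, 162, false), (159, 163, false), (171, 172, false), (178, 182, false), (179, 183,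
   false), (180, 184, false), (181, 185, false), (196, 202, false), (197, 203, false), (198, 204, false), (199, 205,
   false), (200, 206, false), (201, 207, false), (218, 222, false), (219, 223, false), (220, 224, false), (221, 225,
   false), (231, 232, false), (238, 239, false), (242, 243, false)]

def t114 : SpT :=
  [(122, 4, true), (122, 5, false), (122, 7, false), (5, 133, true), (6, 133, true), (7, 133, true), (122, 133, true),
   (8, 11, true), (18, 21, true), (25, 28, true), (30, 33, true), (34, 37, true), (38, 42, false), (39, 43, false),
   (44, 47, true), (48, 52, false), (49, 53, false), (54, 58, false), (55, 59, false), (60, 63, true), (64, 68, false),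
   (65, 69, false), (70, 73, true), (74, 77, true), (79, 82, true), (86, 90, false), (87, 91, false), (92, 95, true),
   (96, 99, true), (101, 104, true), (107, 110, true), (113, 116, true), (118, 121, true), (123, 128, false), (124,
   130, false), (125, 131, true), (127, 132, true), (134, 137, false), (139, 142, false), (145, 148, false), (151, 154,
   false), (156, 159, false), (160, 163, false), (164, 168, true), (165, 169, true), (173, 176, false), (178, 181,
   false), (182, 185, false), (186, 190, true), (187, 191, true), (192, 195, false), (196, 200, true), (197, 201,
   true), (202, 206, true), (203, 207, true), (208, 211, false), (212, 216, true), (213, 217, true), (218, 221, false),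
   (222, 225, false), (227, 230, false), (234, 237, false), (244, 247, false)]

def t115 : SpT :=
  [(123, 4, true), (123, 5, false), (123, 6, false), (123, 7, true), (5, 132, true), (6, 132, true), (123, 132, true),
   (9, 11, true), (18, 20, false), (25, 27, false), (30, 32, false), (34, 36, false), (38, 41, true), (40, 43, false),
   (44, 46, false), (48, 51, true), (50, 53, false), (54, 57, true), (56, 59, false), (61, 63, true), (64, 67, true),
   (66, 69, false), (71, 73, true), (75, 77, true), (80, 82, true), (86, 89, true), (88, 91, false), (93, 95, true),
   (97, 99, true), (102, 104, true), (108, 110, true), (114, 116, true), (119, 121, true), (122, 127, false), (124,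
   129, false), (126, 131, true), (128, 133, true), (134, 136, false), (139, 141, false), (145, 147, false), (151, 153,
   false), (156, 158, false), (160, 162, false), (164, 167, true), (166, 169, false), (173, 175, false), (178, 180,
   false), (182, 184, false), (186, 189, true), (188, 191, false), (192, 194, false), (196, 199, true), (198, 201,
   false), (202, 205, true), (204, 207, false), (209, 211, true), (212, 215, true), (214, 217, false), (219, 221,
   true), (223, 225, true), (228, 230, true), (235, 237, true), (244, 246, false)]

def t116 : SpT :=
  [(124, 4, true), (124, 5, true), (124, 6, true), (5, 131, true), (124, 131, true), (10, 11, true), (18, 19, true),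
   (25, 26, true), (30, 31, true), (34, 35, true), (39, 41, true), (40, 42, true), (44, 45, true), (49, 51, true), (50,
   52, true), (55, 57, true), (56, 58, true), (62, 63, true), (65, 67, true), (66, 68, true), (72, 73, true), (76, 77,
   true), (81, 82, true), (87, 89, true), (88, 90, true), (94, 95, true), (98, 99, true), (103, 104, true), (109, 110,
   true), (115, 116, true), (120, 121, true), (122, 125, false), (123, 126, false), (129, 132, true), (130, 133, true),
   (134, 135, false), (139, 140, false), (145, 146, false), (151, 152, false), (156, 157, false), (160, 161, false),
   (165, 167, false), (166, 168, false), (173, 174, false), (178, 179, false), (182, 183, false), (187, 189, false),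
   (188, 190, false), (192, 193, false), (197, 199, false), (198, 200, false), (203, 205, false), (204, 206, false),
   (210, 211, false), (213, 215, false), (214, 216, false), (220, 221, false), (224, 225, false), (229, 230, false),
   (236, 237, false), (244, 245, false)]

def t117 : SpT :=
  [(125, 5, true), (125, 6, false), (125, 7, false), (6, 130, true), (7, 130, true), (125, 130, true), (8, 10, true),
   (19, 21, false), (26, 28, false), (31, 33, false), (35, 37, false), (38, 40, false), (41, 43, true), (45, 47,
   false), (48, 50, false), (51, 53, true), (54, 56, false), (57, 59, true), (60, 62, true), (64, 66, false), (67, 69,
   true), (70, 72, true), (74, 76, true), (79, 81, true), (86, 88, false), (89, 91, true), (92, 94, true), (96, 98,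
   true), (101, 103, true), (107, 109, true), (113, 115, true), (118, 120, true), (122, 124, true), (126, 128, false),
   (127, 129, true), (131, 133, false), (135, 137, false), (140, 142, false), (146, 148, false), (152, 154, false),
   (157, 159, false), (161, 163, false), (164, 166, false), (167, 169, true), (174, 176, false), (179, 181, false),
   (183, 185, false), (186, 188, false), (189, 191, true), (193, 195, false), (196, 198, false), (199, 201, true),
   (202, 204, false), (205, 207, true), (208, 210, true), (212, 214, false), (215, 217, true), (218, 220, true), (222,
   224, true), (227, 229, true), (234, 236, true), (245, 247, false)]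

def t118 : SpT :=
  [(126, 5, true), (126, 6, true), (126, 7, true), (6, 129, true), (126, 129, true), (9, 10, true), (19, 20, true),
   (26, 27, true), (31, 32, true), (35, 36, true), (38, 39, true), (42, 43, true), (45, 46, true), (48, 49, true), (52,
   53, true), (54, 55, true), (58, 59, true), (61, 62, true), (64, 65, true), (68, 69, true), (71, 72, true), (75, 76,
   true), (80, 81, true), (86, 87, true), (90, 91, true), (93, 94, true), (97, 98, true), (102, 103, true), (108, 109,
   true), (114, 115, true), (119, 120, true), (123, 124, true), (125, 127, false), (128, 130, true), (131, 132, false),
   (135, 136, false), (140, 141, false), (146, 147, false), (152, 153, false), (157, 158, false), (161, 162, false),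
   (164, 165, false), (168, 169, false), (174, 175, false), (179, 180, false), (183, 184, false), (186, 187, false),
   (190, 191, false), (193, 194, false), (196, 197, false), (200, 201, false), (202, 203, false), (206, 207, false),
   (209, 210, false), (212, 213, false), (216, 217, false), (219, 220, false), (223, 224, false), (228, 229, false),
   (235, 236, false), (245, 246, false)]

def t119 : SpT :=
  [(127, 6, true), (127, 7, true), (7, 128, true), (127, 128, true), (8, 9, true), (20, 21, true), (27, 28, true), (32,
   33, true), (36, 37, true), (39, 40, true), (41, 42, true), (46, 47, true), (49, 50, true), (51, 52, true), (55, 56,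
   true), (57, 58, true), (60, 61, true), (65, 66, true), (67, 68, true), (70, 71, true), (74, 75, true), (79, 80,
   true), (87, 88, true), (89, 90, true), (92, 93, true), (96, 97, true), (101, 102, true), (107, 108, true), (113,
   114, true), (118, 119, true), (122, 123, true), (125, 126, true), (129, 130, false), (132, 133, false), (136, 137,
   false), (141, 142, false), (147, 148, false), (153, 154, false), (158, 159, false), (162, 163, false), (165, 166,
   false), (167, 168, false), (175, 176, false), (180, 181, false), (184, 185, false), (187, 188, false), (189, 190,
   false), (194, 195, false), (197, 198, false), (199, 200, false), (203, 204, false), (205, 206, false), (208, 209,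
   false), (213, 214, false), (215, 216, false), (218, 219, false), (222, 223, false), (227, 228, false), (234, 235,
   false), (246, 247, false)]

def t120 : SpT :=
  [(128, 6, false), (128, 7, false), (7, 127, false), (128, 127, true), (9, 8, true), (21, 20, true), (28, 27, true),
   (33, 32, true), (37, 36, true), (40, 39, true), (42, 41, true), (47, 46, true), (50, 49, true), (52, 51, true), (56,
   55, true), (58, 57, true), (61, 60, true), (66, 65, true), (68, 67, true), (71, 70, true), (75, 74, true), (80, 79,
   true), (88, 87, true), (90, 89, true), (93, 92, true), (97, 96, true), (102, 101, true), (108, 107, true), (114,
   113, true), (119, 118, true), (123, 122, true), (126, 125, true), (130, 129, false), (133, 132, false), (137, 136,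
   false), (142, 141, false), (148, 147, false), (154, 153, false), (159, 158, false), (163, 162, false), (166, 165,
   false), (168, 167, false), (176, 175, false), (181, 180, false), (185, 184, false), (188, 187, false), (190, 189,
   false), (195, 194, false), (198, 197, false), (200, 199, false), (204, 203, false), (206, 205, false), (209, 208,
   false), (214, 213, false), (216, 215, false), (219, 218, false), (223, 222, false), (228, 227, false), (235, 234,
   false), (247, 246, false)]

def t121 : SpT :=
  [(129, 5, false), (129, 6, false), (129, 7, false), (6, 126, false), (129, 126, true), (10, 9, true), (20, 19, true),
   (27, 26, true), (32, 31, true), (36, 35, true), (39, 38, true), (43, 42, true), (46, 45, true), (49, 48, true), (53,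
   52, true), (55, 54, true), (59, 58, true), (62, 61, true), (65, 64, true), (69, 68, true), (72, 71, true), (76, 75,
   true), (81, 80, true), (87, 86, true), (91, 90, true), (94, 93, true), (98, 97, true), (103, 102, true), (109, 108,
   true), (115, 114, true), (120, 119, true), (124, 123, true), (127, 125, false), (130, 128, true), (132, 131, false),
   (136, 135, false), (141, 140, false), (147, 146, false), (153, 152, false), (158, 157, false), (162, 161, false),
   (165, 164, false), (169, 168, false), (175, 174, false), (180, 179, false), (184, 183, false), (187, 186, false),
   (191, 190, false), (194, 193, false), (197, 196, false), (201, 200, false), (203, 202, false), (207, 206, false),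
   (210, 209, false), (213, 212, false), (217, 216, false), (220, 219, false), (224, 223, false), (229, 228, false),
   (236, 235, false), (246, 245, false)]

def t122 : SpT :=
  [(130, 5, false), (130, 6, true), (130, 7, true), (6, 125, false), (7, 125, false), (130, 125, true), (10, 8, true),
   (21, 19, false), (28, 26, false), (33, 31, false), (37, 35, false), (40, 38, false), (43, 41, true), (47, 45,
   false), (50, 48, false), (53, 51, true), (56, 54, false), (59, 57, true), (62, 60, true), (66, 64, false), (69, 67,
   true), (72, 70, true), (76, 74, true), (81, 79, true), (88, 86, false), (91, 89, true), (94, 92, true), (98, 96,
   true), (103, 101, true), (109, 107, true), (115, 113, true), (120, 118, true), (124, 122, true), (128, 126, false),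
   (129, 127, true), (133, 131, false), (137, 135, false), (142, 140, false), (148, 146, false), (154, 152, false),
   (159, 157, false), (163, 161, false), (166, 164, false), (169, 167, true), (176, 174, false), (181, 179, false),
   (185, 183, false), (188, 186, false), (191, 189, true), (195, 193, false), (198, 196, false), (201, 199, true),
   (204, 202, false), (207, 205, true), (210, 208, true), (214, 212, false), (217, 215, true), (220, 218, true), (224,
   222, true), (229, 227, true), (236, 234, true), (247, 245, false)]

def t123 : SpT :=
  [(131, 4, false), (131, 5, false), (131, 6, false), (5, 124, false), (131, 124, true), (11, 10, true), (19, 18,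
   true), (26, 25, true), (31, 30, true), (35, 34, true), (41, 39, true), (42, 40, true), (45, 44, true), (51, 49,
   true), (52, 50, true), (57, 55, true), (58, 56, true), (63, 62, true), (67, 65, true), (68, 66, true), (73, 72,
   true), (77, 76, true), (82, 81, true), (89, 87, true), (90, 88, true), (95, 94, true), (99, 98, true), (104, 103,
   true), (110, 109, true), (116, 115, true), (121, 120, true), (125, 122, false), (126, 123, false), (132, 129, true),
   (133, 130, true), (135, 134, false), (140, 139, false), (146, 145, false), (152, 151, false), (157, 156, false),
   (161, 160, false), (167, 165, false), (168, 166, false), (174, 173, false), (179, 178, false), (183, 182, false),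
   (189, 187, false), (190, 188, false), (193, 192, false), (199, 197, false), (200, 198, false), (205, 203, false),
   (206, 204, false), (211, 210, false), (215, 213, false), (216, 214, false), (221, 220, false), (225, 224, false),
   (230, 229, false), (237, 236, false), (245, 244, false)]

def t124 : SpT :=
  [(132, 4, false), (132, 5, true), (132, 6, true), (132, 7, false), (5, 123, false), (6, 123, false), (132, 123,
   true), (11, 9, true), (20, 18, false), (27, 25, false), (32, 30, false), (36, 34, false), (41, 38, true), (43, 40,
   false), (46, 44, false), (51, 48, true), (53, 50, false), (57, 54, true), (59, 56, false), (63, 61, true), (67, 64,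
   true), (69, 66, false), (73, 71, true), (77, 75, true), (82, 80, true), (89, 86, true), (91, 88, false), (95, 93,
   true), (99, 97, true), (104, 102, true), (110, 108, true), (116, 114, true), (121, 119, true), (127, 122, false),
   (129, 124, false), (131, 126, true), (133, 128, true), (136, 134, false), (141, 139, false), (147, 145, false),
   (153, 151, false), (158, 156, false), (162, 160, false), (167, 164, true), (169, 166, false), (175, 173, false),
   (180, 178, false), (184, 182, false), (189, 186, true), (191, 188, false), (194, 192, false), (199, 196, true),
   (201, 198, false), (205, 202, true), (207, 204, false), (211, 209, true), (215, 212, true), (217, 214, false), (221,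
   219, true), (225, 223, true), (230, 228, true), (237, 235, true), (246, 244, false)]

def t125 : SpT :=
  [(133, 4, false), (133, 5, true), (133, 7, true), (5, 122, false), (6, 122, false), (7, 122, false), (133, 122,
   true), (11, 8, true), (21, 18, true), (28, 25, true), (33, 30, true), (37, 34, true), (42, 38, false), (43, 39,
   false), (47, 44, true), (52, 48, false), (53, 49, false), (58, 54, false), (59, 55, false), (63, 60, true), (68, 64,
   false), (69, 65, false), (73, 70, true), (77, 74, true), (82, 79, true), (90, 86, false), (91, 87, false), (95, 92,
   true), (99, 96, true), (104, 101, true), (110, 107, true), (116, 113, true), (121, 118, true), (128, 123, false),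
   (130, 124, false), (131, 125, true), (132, 127, true), (137, 134, false), (142, 139, false), (148, 145, false),
   (154, 151, false), (159, 156, false), (163, 160, false), (168, 164, true), (169, 165, true), (176, 173, false),
   (181, 178, false), (185, 182, false), (190, 186, true), (191, 187, true), (195, 192, false), (200, 196, true), (201,
   197, true), (206, 202, true), (207, 203, true), (211, 208, false), (216, 212, true), (217, 213, true), (221, 218,
   false), (225, 222, false), (230, 227, false), (237, 234, false), (247, 244, false)]

def t130 : SpT :=
  [(138, 1, false), (138, 2, false), (138, 3, false), (138, 4, false), (3, 117, false), (138, 117, true), (13, 12,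
   true), (17, 16, true), (24, 23, true), (34, 30, true), (35, 31, true), (36, 32, true), (37, 33, true), (54, 48,
   true), (55, 49, true), (56, 50, true), (57, 51, true), (58, 52, true), (59, 53, true), (74, 70, true), (75, 71,
   true), (76, 72, true), (77, 73, true), (84, 83, true), (96, 92, true), (97, 93, true), (98, 94, true), (99, 95,
   true), (106, 105, true), (112, 111, true), (118, 113, false), (119, 114, false), (120, 115, false), (121, 116,
   false), (139, 134, true), (140, 135, true), (141, 136, true), (142, 137, true), (144, 143, false), (150, 149,
   false), (160, 156, false), (161, 157, false), (162, 158, false), (163, 159, false), (172, 171, false), (182, 178,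
   false), (183, 179, false), (184, 180, false), (185, 181, false), (202, 196, false), (203, 197, false), (204, 198,
   false), (205, 199, false), (206, 200, false), (207, 201, false), (222, 218, false), (223, 219, false), (224, 220,
   false), (225, 221, false), (232, 231, false), (239, 238, false), (243, 242, false)]

def t135 : SpT :=
  [(143, 0, false), (143, 2, false), (143, 3, false), (2, 112, false), (143, 112, true), (14, 13, true), (16, 15,
   true), (29, 24, true), (30, 25, true), (31, 26, true), (32, 27, true), (33, 28, true), (64, 54, true), (65, 55,
   true), (66, 56, true), (67, 57, true), (68, 58, true), (69, 59, true), (70, 60, true), (71, 61, true), (72, 62,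
   true), (73, 63, true), (85, 84, true), (101, 96, true), (102, 97, true), (103, 98, true), (104, 99, true), (105,
   100, true), (113, 107, false), (114, 108, false), (115, 109, false), (116, 110, false), (117, 111, false), (144,
   138, true), (145, 139, true), (146, 140, true), (147, 141, true), (148, 142, true), (155, 150, false), (156, 151,
   false), (157, 152, false), (158, 153, false), (159, 154, false), (171, 170, false), (192, 182, false), (193, 183,
   false), (194, 184, false), (195, 185, false), (196, 186, false), (197, 187, false), (198, 188, false), (199, 189,
   false), (200, 190, false), (201, 191, false), (227, 222, false), (228, 223, false), (229, 224, false), (230, 225,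
   false), (231, 226, false), (240, 239, false), (242, 241, false)]

def t136 : SpT :=
  [(144, 0, false), (144, 1, false), (144, 2, true), (144, 3, true), (144, 4, false), (2, 111, false), (3, 111, false),
   (144, 111, true), (14, 12, true), (17, 15, false), (29, 23, true), (34, 25, false), (35, 26, false), (36, 27,
   false), (37, 28, false), (64, 48, true), (65, 49, true), (66, 50, true), (67, 51, true), (68, 52, true), (69, 53,
   true), (74, 60, false), (75, 61, false), (76, 62, false), (77, 63, false), (85, 83, true), (101, 92, true), (102,
   93, true), (103, 94, true), (104, 95, true), (106, 100, false), (118, 107, false), (119, 108, false), (120, 109,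
   false), (121, 110, false), (138, 112, false), (143, 117, true), (145, 134, true), (146, 135, true), (147, 136,
   true), (148, 137, true), (155, 149, true), (160, 151, false), (161, 152, false), (162, 153, false), (163, 154,
   false), (172, 170, false), (192, 178, true), (193, 179, true), (194, 180, true), (195, 181, true), (202, 186,
   false), (203, 187, false), (204, 188, false), (205, 189, false), (206, 190, false), (207, 191, false), (227, 218,
   true), (228, 219, true), (229, 220, true), (230, 221, true), (232, 226, false), (240, 238, true), (243, 241, false)]

def t141 : SpT :=
  [(149, 1, false), (149, 3, false), (1, 106, false), (149, 106, true), (15, 13, true), (16, 14, true), (23, 22, true),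
   (44, 34, true), (45, 35, true), (46, 36, true), (47, 37, true), (48, 38, true), (49, 39, true), (50, 40, true), (51,
   41, true), (52, 42, true), (53, 43, true), (79, 74, true), (80, 75, true), (81, 76, true), (82, 77, true), (83, 78,
   true), (107, 96, true), (108, 97, true), (109, 98, true), (110, 99, true), (111, 100, true), (113, 101, false),
   (114, 102, false), (115, 103, false), (116, 104, false), (117, 105, false), (150, 138, true), (151, 139, true),
   (152, 140, true), (153, 141, true), (154, 142, true), (155, 144, false), (156, 145, false), (157, 146, false), (158,
   147, false), (159, 148, false), (177, 172, false), (178, 173, false), (179, 174, false), (180, 175, false), (181,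
   176, false), (212, 202, false), (213, 203, false), (214, 204, false), (215, 205, false), (216, 206, false), (217,
   207, false), (218, 208, false), (219, 209, false), (220, 210, false), (221, 211, false), (233, 232, false), (241,
   239, false), (242, 240, false)]

def t142 : SpT :=
  [(150, 1, true), (150, 2, false), (150, 3, true), (150, 4, false), (1, 105, false), (3, 105, false), (150, 105,
   true), (15, 12, true), (17, 14, false), (24, 22, false), (44, 30, true), (45, 31, true), (46, 32, true), (47, 33,
   true), (54, 38, false), (55, 39, false), (56, 40, false), (57, 41, false), (58, 42, false), (59, 43, false), (79,
   70, true), (80, 71, true), (81, 72, true), (82, 73, true), (84, 78, false), (107, 92, true), (108, 93, true), (109,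
   94, true), (110, 95, true), (112, 100, false), (118, 101, false), (119, 102, false), (120, 103, false), (121, 104,
   false), (138, 106, false), (149, 117, true), (151, 134, true), (152, 135, true), (153, 136, true), (154, 137, true),
   (155, 143, true), (160, 145, false), (161, 146, false), (162, 147, false), (163, 148, false), (177, 171, true),
   (182, 173, false), (183, 174, false), (184, 175, false), (185, 176, false), (212, 196, true), (213, 197, true),
   (214, 198, true), (215, 199, true), (216, 200, true), (217, 201, true), (222, 208, false), (223, 209, false), (224,
   210, false), (225, 211, false), (233, 231, true), (241, 238, true), (243, 240, false)]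

def t147 : SpT :=
  [(155, 0, false), (155, 1, true), (155, 2, true), (155, 4, false), (1, 100, false), (2, 100, false), (3, 100, false),
   (155, 100, true), (16, 12, false), (17, 13, false), (29, 22, true), (44, 25, true), (45, 26, true), (46, 27, true),
   (47, 28, true), (64, 38, true), (65, 39, true), (66, 40, true), (67, 41, true), (68, 42, true), (69, 43, true), (79,
   60, true), (80, 61, true), (81, 62, true), (82, 63, true), (85, 78, true), (113, 92, true), (114, 93, true), (115,
   94, true), (116, 95, true), (118, 96, false), (119, 97, false), (120, 98, false), (121, 99, false), (143, 105,
   false), (144, 106, true), (149, 111, false), (150, 112, true), (156, 134, true), (157, 135, true), (158, 136, true),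
   (159, 137, true), (160, 139, false), (161, 140, false), (162, 141, false), (163, 142, false), (177, 170, false),
   (192, 173, false), (193, 174, false), (194, 175, false), (195, 176, false), (212, 186, false), (213, 187, false),
   (214, 188, false), (215, 189, false), (216, 190, false), (217, 191, false), (227, 208, false), (228, 209, false),
   (229, 210, false), (230, 211, false), (233, 226, false), (242, 238, true), (243, 239, true)]

def t162 : SpT :=
  [(170, 0, false), (170, 2, false), (0, 85, false), (170, 85, true), (22, 14, true), (23, 16, true), (24, 17, true),
   (25, 18, true), (26, 19, true), (27, 20, true), (28, 21, true), (86, 64, false), (87, 65, false), (88, 66, false),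
   (89, 67, false), (90, 68, false), (91, 69, false), (92, 70, false), (93, 71, false), (94, 72, false), (95, 73,
   false), (96, 74, false), (97, 75, false), (98, 76, false), (99, 77, false), (100, 78, false), (107, 79, false),
   (108, 80, false), (109, 81, false), (110, 82, false), (111, 83, false), (112, 84, false), (171, 143, true), (172,
   144, true), (173, 145, true), (174, 146, true), (175, 147, true), (176, 148, true), (177, 155, true), (178, 156,
   true), (179, 157, true), (180, 158, true), (181, 159, true), (182, 160, true), (183, 161, true), (184, 162, true),
   (185, 163, true), (186, 164, true), (187, 165, true), (188, 166, true), (189, 167, true), (190, 168, true), (191,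
   169, true), (234, 227, false), (235, 228, false), (236, 229, false), (237, 230, false), (238, 231, false), (239,
   232, false), (241, 233, false)]

def t163 : SpT :=
  [(171, 0, true), (171, 2, true), (171, 3, false), (0, 84, false), (2, 84, false), (171, 84, true), (22, 13, true),
   (23, 15, true), (29, 17, false), (30, 18, false), (31, 19, false), (32, 20, false), (33, 21, false), (86, 54,
   false), (87, 55, false), (88, 56, false), (89, 57, false), (90, 58, false), (91, 59, false), (92, 60, false), (93,
   61, false), (94, 62, false), (95, 63, false), (101, 74, true), (102, 75, true), (103, 76, true), (104, 77, true),
   (105, 78, true), (113, 79, false), (114, 80, false), (115, 81, false), (116, 82, false), (117, 83, false), (143, 85,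
   false), (170, 112, true), (172, 138, true), (173, 139, true), (174, 140, true), (175, 141, true), (176, 142, true),
   (177, 150, false), (178, 151, false), (179, 152, false), (180, 153, false), (181, 154, false), (192, 160, true),
   (193, 161, true), (194, 162, true), (195, 163, true), (196, 164, true), (197, 165, true), (198, 166, true), (199,
   167, true), (200, 168, true), (201, 169, true), (234, 222, true), (235, 223, true), (236, 224, true), (237, 225,
   true), (238, 226, true), (240, 232, false), (242, 233, false)]

def t164 : SpT :=
  [(172, 0, true), (172, 1, false), (172, 3, true), (172, 4, false), (0, 83, false), (2, 83, false), (3, 83, false),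
   (172, 83, true), (22, 12, true), (24, 15, false), (29, 16, false), (34, 18, true), (35, 19, true), (36, 20, true),
   (37, 21, true), (86, 48, false), (87, 49, false), (88, 50, false), (89, 51, false), (90, 52, false), (91, 53,
   false), (96, 60, true), (97, 61, true), (98, 62, true), (99, 63, true), (101, 70, true), (102, 71, true), (103, 72,
   true), (104, 73, true), (106, 78, false), (118, 79, false), (119, 80, false), (120, 81, false), (121, 82, false),
   (138, 84, false), (144, 85, false), (170, 111, true), (171, 117, true), (173, 134, true), (174, 135, true), (175,
   136, true), (176, 137, true), (177, 149, true), (182, 151, false), (183, 152, false), (184, 153, false), (185, 154,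
   false), (192, 156, false), (193, 157, false), (194, 158, false), (195, 159, false), (202, 164, true), (203, 165,
   true), (204, 166, true), (205, 167, true), (206, 168, true), (207, 169, true), (234, 218, false), (235, 219, false),
   (236, 220, false), (237, 221, false), (239, 226, true), (240, 231, true), (243, 233, false)]

def t169 : SpT :=
  [(177, 0, true), (177, 1, true), (177, 4, false), (0, 78, false), (1, 78, false), (2, 78, false), (3, 78, false),
   (177, 78, true), (23, 12, false), (24, 13, false), (29, 14, false), (44, 18, false), (45, 19, false), (46, 20,
   false), (47, 21, false), (86, 38, false), (87, 39, false), (88, 40, false), (89, 41, false), (90, 42, false), (91,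
   43, false), (107, 60, false), (108, 61, false), (109, 62, false), (110, 63, false), (113, 70, true), (114, 71,
   true), (115, 72, true), (116, 73, true), (118, 74, false), (119, 75, false), (120, 76, false), (121, 77, false),
   (149, 83, false), (150, 84, true), (155, 85, false), (170, 100, true), (171, 105, false), (172, 106, true), (178,
   134, true), (179, 135, true), (180, 136, true), (181, 137, true), (182, 139, false), (183, 140, false), (184, 141,
   false), (185, 142, false), (192, 145, true), (193, 146, true), (194, 147, true), (195, 148, true), (212, 164, true),
   (213, 165, true), (214, 166, true), (215, 167, true), (216, 168, true), (217, 169, true), (234, 208, true), (235,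
   209, true), (236, 210, true), (237, 211, true), (241, 226, true), (242, 231, true), (243, 232, true)]

def t236 : SpT :=
  [(244, 4, true), (244, 5, false), (0, 11, true), (2, 11, false), (4, 11, true), (6, 11, true), (7, 11, false), (244,
   11, true), (122, 8, false), (123, 9, false), (124, 10, false), (134, 12, false), (139, 13, false), (145, 14, false),
   (151, 15, false), (156, 16, true), (160, 17, false), (164, 19, true), (165, 20, false), (166, 21, true), (173, 22,
   false), (178, 23, true), (182, 24, false), (186, 26, true), (187, 27, false), (188, 28, true), (192, 29, true),
   (196, 31, false), (197, 32, true), (198, 33, false), (202, 35, true), (203, 36, false), (204, 37, true), (208, 41,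
   true), (209, 42, false), (210, 43, true), (212, 45, false), (213, 46, true), (214, 47, false), (218, 51, false),
   (219, 52, true), (220, 53, false), (222, 57, true), (223, 58, false), (224, 59, true), (226, 63, false), (227, 67,
   false), (228, 68, true), (229, 69, false), (231, 73, true), (232, 77, false), (233, 82, true), (234, 89, false),
   (235, 90, true), (236, 91, false), (238, 95, true), (239, 99, false), (240, 104, true), (241, 110, true), (242, 116,
   true), (243, 121, true), (245, 131, true), (246, 132, true), (247, 133, true)]

def t237 : SpT :=
  [(245, 5, true), (245, 6, false), (0, 10, true), (2, 10, false), (4, 10, true), (5, 10, false), (6, 10, true), (7,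
   10, false), (245, 10, true), (125, 8, false), (126, 9, false), (131, 11, false), (135, 12, false), (140, 13, false),
   (146, 14, false), (152, 15, false), (157, 16, true), (161, 17, false), (164, 18, true), (167, 20, false), (168, 21,
   true), (174, 22, false), (179, 23, true), (183, 24, false), (186, 25, true), (189, 27, false), (190, 28, true),
   (193, 29, true), (196, 30, false), (199, 32, true), (200, 33, false), (202, 34, true), (205, 36, false), (206, 37,
   true), (208, 39, true), (209, 40, false), (211, 43, true), (212, 44, false), (215, 46, true), (216, 47, false),
   (218, 49, false), (219, 50, true), (221, 53, false), (222, 55, true), (223, 56, false), (225, 59, true), (226, 62,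
   false), (227, 65, false), (228, 66, true), (230, 69, false), (231, 72, true), (232, 76, false), (233, 81, true),
   (234, 87, false), (235, 88, true), (237, 91, false), (238, 94, true), (239, 98, false), (240, 103, true), (241, 109,
   true), (242, 115, true), (243, 120, true), (244, 124, true), (246, 129, true), (247, 130, true)]

def t238 : SpT :=
  [(246, 6, true), (246, 7, false), (0, 9, true), (2, 9, false), (4, 9, true), (5, 9, false), (7, 9, false), (246, 9,
   true), (127, 8, false), (129, 10, false), (132, 11, false), (136, 12, false), (141, 13, false), (147, 14, false),
   (153, 15, false), (158, 16, true), (162, 17, false), (165, 18, true), (167, 19, false), (169, 21, true), (175, 22,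
   false), (180, 23, true), (184, 24, false), (187, 25, true), (189, 26, false), (191, 28, true), (194, 29, true),
   (197, 30, false), (199, 31, true), (201, 33, false), (203, 34, true), (205, 35, false), (207, 37, true), (208, 38,
   true), (210, 40, false), (211, 42, true), (213, 44, false), (215, 45, true), (217, 47, false), (218, 48, false),
   (220, 50, true), (221, 52, false), (222, 54, true), (224, 56, false), (225, 58, true), (226, 61, false), (227, 64,
   false), (229, 66, true), (230, 68, false), (231, 71, true), (232, 75, false), (233, 80, true), (234, 86, false),
   (236, 88, true), (237, 90, false), (238, 93, true), (239, 97, false), (240, 102, true), (241, 108, true), (242, 114,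
   true), (243, 119, true), (244, 123, true), (245, 126, true), (247, 128, true)]

def t239 : SpT :=
  [(247, 7, true), (0, 8, true), (2, 8, false), (4, 8, true), (5, 8, false), (7, 8, true), (247, 8, true), (128, 9,
   false), (130, 10, false), (133, 11, false), (137, 12, false), (142, 13, false), (148, 14, false), (154, 15, false),
   (159, 16, true), (163, 17, false), (166, 18, true), (168, 19, false), (169, 20, true), (176, 22, false), (181, 23,
   true), (185, 24, false), (188, 25, true), (190, 26, false), (191, 27, true), (195, 29, true), (198, 30, false),
   (200, 31, true), (201, 32, false), (204, 34, true), (206, 35, false), (207, 36, true), (209, 38, true), (210, 39,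
   false), (211, 41, true), (214, 44, false), (216, 45, true), (217, 46, false), (219, 48, false), (220, 49, true),
   (221, 51, false), (223, 54, true), (224, 55, false), (225, 57, true), (226, 60, false), (228, 64, false), (229, 65,
   true), (230, 67, false), (231, 70, true), (232, 74, false), (233, 79, true), (235, 86, false), (236, 87, true),
   (237, 89, false), (238, 92, true), (239, 96, false), (240, 101, true), (241, 107, true), (242, 113, true), (243,
   118, true), (244, 122, true), (245, 125, true), (246, 127, true)]

/-- the table -/
def TX : List (ℕ × SpT) :=
  [(0, t0), (1, t1), (2, t2), (3, t3), (70, t70), (75, t75), (76, t76), (77, t77), (92, t92), (97, t97), (98, t98),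
   (103, t103), (104, t104), (109, t109), (114, t114), (115, t115), (116, t116), (117, t117), (118, t118), (119, t119),
   (120, t120), (121, t121), (122, t122), (123, t123), (124, t124), (125, t125), (130, t130), (135, t135), (136, t136),
   (141, t141), (142, t142), (147, t147), (162, t162), (163, t163), (164, t164), (169, t169), (236, t236), (237, t237),
   (238, t238), (239, t239)]

theorem TX_ok : okT Cfsg.Lie.chevE8 TX = true := by decide +kernel

end Cfsg.Agent.H74.E83
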