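import Mathlib

/-!
# Packed vectors over `ZMod 3` (helper74)

A vector with at most 256 coordinates is a natural number `w < 2 ^ 512`: bit `j` says that coordinate `j` is `1`,
bit `256 + j` says that it is `-1`. `val w j` : the coordinate; `Vld w` : `w < 2 ^ 512` and no coordinate has both bits.
`tadd`, `tneg`, `tsub` : sum, negative, difference; `tun j` : unit vector.
-/

set_option autoImplicit false
set_option exponentiation.threshold 600

namespace Cfsg.Agent.H74.E83.Trit

/-- `±1` from two bits -/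
def tz (p m : Bool) : ZMod 3 := (if p then 1 else 0) - (if m then 1 else 0)

/-- the coordinate -/
def val (w j : ℕ) : ZMod 3 := tz (w.testBit j) (w.testBit (256 + j))

/-- no coordinate has both bits -/
structure Vld (w : ℕ) : Prop where
  lt : w < 2 ^ 512
  ok : ∀ j < 256, (w.testBit j && w.testBit (256 + j)) = false

/-- exchange the two halves: the negative -/
def tneg (w : ℕ) : ℕ := Nat.lor (Nat.shiftRight w 256) (Nat.shiftLeft (Nat.land w (2 ^ 256 - 1)) 256)

/-- difference bit of the halves -/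
def tt (X : ℕ) : ℕ := Nat.land (Nat.xor X (Nat.shiftRight X 256)) (2 ^ 256 - 1)

/-- both halves equal -/
def dbl (T : ℕ) : ℕ := Nat.lor T (Nat.shiftLeft T 256)

/-- the sum -/
def tadd (a b : ℕ) : ℕ := Nat.xor (tneg (Nat.lor a b)) (dbl (tt (Nat.lor a (tneg b))))

/-- the difference -/
def tsub (a b : ℕ) : ℕ := Nat.xor (tneg (Nat.lor a (tneg b))) (dbl (tt (Nat.lor a b)))

/-- unit vector -/
def tun (j : ℕ) : ℕ := Nat.shiftLeft 1 j

theorem lor_def (a b : ℕ) : Nat.lor a b = a ||| b := rfl
theorem xor_def (a b : ℕ) : Nat.xor a b = a ^^^ b := rfl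
theorem land_def (a b : ℕ) : Nat.land a b = a &&& b := rfl
theorem shr_def (a b : ℕ) : Nat.shiftRight a b = a >>> b := rfl
theorem shl_def (a b : ℕ) : Nat.shiftLeft a b = a <<< b := rfl

theorem testBit_big {w j : ℕ} (h : w < 2 ^ 512) (hj : 512 ≤ j) : w.testBit j = false :=
  Nat.testBit_lt_two_pow (h.trans_le (Nat.pow_le_pow_right two_pos hj))

theorem lt_of_bits {w : ℕ} (h : ∀ j, 512 ≤ j → w.testBit j = false) : w < 2 ^ 512 := Nat.lt_pow_two_of_testBit _ h

theorem testBit_neg_lo {w j : ℕ} (hj : j < 256) : (tneg w).testBit j = w.testBit (256 + j) := by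
  unfold tneg
  rw [lor_def, shr_def, shl_def, land_def, Nat.testBit_or, Nat.testBit_shiftRight, Nat.testBit_shiftLeft]
  have h : ¬ (j ≥ 256) := by omega
  simp [h]

theorem testBit_neg_hi {w j : ℕ} (hw : w < 2 ^ 512) (hj : j < 256) : (tneg w).testBit (256 + j) = w.testBit j := by
  unfold tneg
  rw [lor_def, shr_def, shl_def, land_def, Nat.testBit_or, Nat.testBit_shiftRight, Nat.testBit_shiftLeft,
    Nat.testBit_and, testBit_big hw (by omega), Nat.testBit_two_pow_sub_one]
  have h : 256 + j - 256 = j := by omega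
  simp [h, hj]

theorem neg_lt {w : ℕ} (hw : w < 2 ^ 512) : tneg w < 2 ^ 512 := by
  apply lt_of_bits
  intro j hj
  unfold tneg
  rw [lor_def, shr_def, shl_def, land_def, Nat.testBit_or, Nat.testBit_shiftRight, Nat.testBit_shiftLeft,
    Nat.testBit_and, testBit_big hw (by omega), Nat.testBit_two_pow_sub_one]
  have h : ¬ (j - 256 < 256) := by omega
  simp [h]

theorem testBit_tt {X j : ℕ} : (tt X).testBit j = ((X.testBit j ^^ X.testBit (256 + j)) && decide (j < 256)) := by
  unfold tt
  rw [land_def, xor_def, shr_def, Nat.testBit_and, Nat.testBit_xor, Nat.testBit_shiftRight, Nat.testBit_two_pow_sub_one]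

theorem testBit_dbl_lo {T j : ℕ} (hj : j < 256) : (dbl T).testBit j = T.testBit j := by
  unfold dbl
  rw [lor_def, shl_def, Nat.testBit_or, Nat.testBit_shiftLeft]
  have h : ¬ (j ≥ 256) := by omega
  simp [h]

theorem testBit_dbl_tt_hi {X j : ℕ} (hj : j < 256) : (dbl (tt X)).testBit (256 + j) = (tt X).testBit j := by
  unfold dbl
  rw [lor_def, shl_def, Nat.testBit_or, Nat.testBit_shiftLeft, testBit_tt (j := 256 + j)]
  have h : 256 + j - 256 = j := by omega
  have h' : ¬ (256 + j < 256) := by omega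
  simp [h]

theorem dbl_tt_lt (X : ℕ) : dbl (tt X) < 2 ^ 512 := by
  apply lt_of_bits
  intro j hj
  unfold dbl
  rw [lor_def, shl_def, Nat.testBit_or, Nat.testBit_shiftLeft, testBit_tt, testBit_tt]
  have h : ¬ (j < 256) := by omega
  have h' : ¬ (j - 256 < 256) := by omega
  simp [h, h']

/-- the bits of a sum -/
theorem add_bits : ∀ ap am bp bm : Bool, (ap && am) = false → (bp && bm) = false →
    tz ((am || bm) ^^ ((ap || bm) ^^ (am || bp))) ((ap || bp) ^^ ((ap || bm) ^^ (am || bp))) = tz ap am + tz bp bm ∧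
    (((am || bm) ^^ ((ap || bm) ^^ (am || bp))) && ((ap || bp) ^^ ((ap || bm) ^^ (am || bp)))) = false := by
  decide

theorem neg_bits : ∀ p m : Bool, tz m p = - tz p m := by decide

theorem vld_neg {w : ℕ} (h : Vld w) : Vld (tneg w) := by
  refine ⟨neg_lt h.lt, fun j hj => ?_⟩
  rw [testBit_neg_lo hj, testBit_neg_hi h.lt hj, Bool.and_comm]
  exact h.ok j hj

theorem val_neg {w j : ℕ} (h : Vld w) (hj : j < 256) : val (tneg w) j = - val w j := by
  unfold val
  rw [testBit_neg_lo hj, testBit_neg_hi h.lt hj]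
  exact neg_bits _ _

theorem add_lo {a b j : ℕ} (hb : b < 2 ^ 512) (hj : j < 256) : (tadd a b).testBit j =
    ((a.testBit (256 + j) || b.testBit (256 + j)) ^^ ((a.testBit j || b.testBit (256 + j)) ^^
      (a.testBit (256 + j) || b.testBit j))) := by
  unfold tadd
  rw [xor_def, lor_def, lor_def, Nat.testBit_xor, testBit_neg_lo hj, testBit_dbl_lo hj, testBit_tt, Nat.testBit_or, Nat.testBit_or,
    Nat.testBit_or, testBit_neg_lo hj, testBit_neg_hi hb hj]
  simp [hj]

theorem add_hi {a b j : ℕ} (ha : a < 2 ^ 512) (hb : b < 2 ^ 512) (hj : j < 256) : (tadd a b).testBit (256 + j) =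
    ((a.testBit j || b.testBit j) ^^ ((a.testBit j || b.testBit (256 + j)) ^^ (a.testBit (256 + j) || b.testBit j))) := by
  unfold tadd
  rw [xor_def, lor_def, lor_def, Nat.testBit_xor, testBit_neg_hi (Nat.or_lt_two_pow ha hb) hj, testBit_dbl_tt_hi hj, testBit_tt,
    Nat.testBit_or, Nat.testBit_or, Nat.testBit_or, testBit_neg_lo hj, testBit_neg_hi hb hj]
  simp [hj]

theorem vld_add {a b : ℕ} (ha : Vld a) (hb : Vld b) : Vld (tadd a b) := by
  refine ⟨?_, fun j hj => ?_⟩
  · unfold tadd
    rw [xor_def]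
    exact Nat.xor_lt_two_pow (neg_lt (Nat.or_lt_two_pow ha.lt hb.lt)) (dbl_tt_lt _)
  · rw [add_lo hb.lt hj, add_hi ha.lt hb.lt hj]
    exact (add_bits _ _ _ _ (ha.ok j hj) (hb.ok j hj)).2

theorem val_add {a b j : ℕ} (ha : Vld a) (hb : Vld b) (hj : j < 256) : val (tadd a b) j = val a j + val b j := by
  unfold val
  rw [add_lo hb.lt hj, add_hi ha.lt hb.lt hj]
  exact (add_bits _ _ _ _ (ha.ok j hj) (hb.ok j hj)).1

theorem tneg_neg {b : ℕ} (hb : b < 2 ^ 512) : tneg (tneg b) = b := by
  apply Nat.eq_of_testBit_eq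
  intro j
  rcases lt_or_ge j 256 with h | h
  · rw [testBit_neg_lo h, testBit_neg_hi hb h]
  · obtain ⟨i, rfl⟩ := Nat.exists_eq_add_of_le h
    rcases lt_or_ge i 256 with h' | h'
    · rw [testBit_neg_hi (neg_lt hb) h', testBit_neg_lo h']
    · rw [testBit_big hb (by omega), testBit_big (neg_lt (neg_lt hb)) (by omega)]

theorem tsub_eq {a b : ℕ} (hb : b < 2 ^ 512) : tsub a b = tadd a (tneg b) := by
  unfold tsub tadd
  rw [tneg_neg hb]

theorem vld_sub {a b : ℕ} (ha : Vld a) (hb : Vld b) : Vld (tsub a b) := by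
  rw [tsub_eq hb.lt]; exact vld_add ha (vld_neg hb)

theorem val_sub {a b j : ℕ} (ha : Vld a) (hb : Vld b) (hj : j < 256) : val (tsub a b) j = val a j - val b j := by
  rw [tsub_eq hb.lt, val_add ha (vld_neg hb) hj, val_neg hb hj, sub_eq_add_neg]

theorem vld_zero : Vld 0 := ⟨by positivity, fun j _ => by simp⟩

theorem val_zero (j : ℕ) : val 0 j = 0 := by unfold val; simp [tz]

theorem vld_un {j : ℕ} (hj : j < 256) : Vld (tun j) := by
  unfold tun
  rw [shl_def, Nat.one_shiftLeft]
  refine ⟨Nat.pow_lt_pow_right (by norm_num) (by omega), fun i hi => ?_⟩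
  have h : ¬ (j = 256 + i) := by omega
  rw [Nat.testBit_two_pow, Nat.testBit_two_pow]
  simp [h]

theorem val_un {i j : ℕ} (hj : j < 256) : val (tun j) i = if i = j then 1 else 0 := by
  unfold val tun
  rw [shl_def, Nat.one_shiftLeft]
  have h : ¬ (j = 256 + i) := by omega
  rw [Nat.testBit_two_pow, Nat.testBit_two_pow]
  by_cases h' : i = j
  · subst h'; simp [h, tz]
  · have h'' : ¬ (j = i) := fun e => h' e.symm
    simp [h, h', h'', tz]

/-- a boolean test of `Vld` -/
def vldB (w : ℕ) : Bool := Nat.blt w (2 ^ 512) && Nat.beq (Nat.land (Nat.land w (Nat.shiftRight w 256)) (2 ^ 256 - 1)) 0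

theorem vld_of_vldB {w : ℕ} (h : vldB w = true) : Vld w := by
  unfold vldB at h
  rw [Bool.and_eq_true, Nat.blt_eq] at h
  refine ⟨h.1, fun j hj => ?_⟩
  have h1 := congrArg (fun x => Nat.testBit x j) (Nat.eq_of_beq_eq_true h.2)
  simp only [land_def, shr_def, Nat.testBit_and, Nat.testBit_shiftRight, Nat.testBit_two_pow_sub_one, Nat.zero_testBit, hj,
    decide_true, Bool.and_true] at h1
  exact h1

end Cfsg.Agent.H74.E83.Trit
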